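import Cfsg.Agent.J4Rep94.H24.Check0

/-!
# Certificate data
-/

set_option autoImplicit false
set_option maxRecDepth 100000

namespace Cfsg.Agent.J4Rep94.H24

open Cfsg.Agent.CosetEnum

theorem dok0 : allRange sys.checkDef 0 49 = true := by decide +kernel

def fchunks : List (ℕ × ℕ) := [(2, fv0)]

theorem defsOK : sys.DefsOK 0 [49] := ⟨dok0, trivial⟩

theorem factsOK : sys.FactsOK 49 fchunks := ⟨fok0, trivial⟩

theorem rules_ok : sys.rules.all (fun R => R.check sys rels subs) = true := by decide +kernel

theorem rels_one : ∀ W ∈ rels, evalWord val7 W = 1 :=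
  List.forall_mem_append.2 ⟨val7_base, List.forall_mem_nil _⟩

def mchunks : List (ℕ × ℕ) := [(24, mv0)]

theorem mainOK : MainOK sys 51 reps 24 gens 0 mchunks := ⟨mok0, trivial⟩

theorem result_index : (wspan val7 subs).relIndex (wspan val7 gens) ≠ 0 ∧
    (wspan val7 subs).relIndex (wspan val7 gens) ≤ 24 :=
  relIndex_le_of_cert (val7_letters (S := sys) rfl (by decide +kernel)) rels_one subs rules_ok [49] fchunks mchunks defsOK (by decide)
    factsOK (hfs := (by decide +kernel : 49 + (fchunks.map Prod.fst).sum = 51)) gens mainOK (by decide +kernel) (by decide) (by decide +kernel)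

end Cfsg.Agent.J4Rep94.H24
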