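import Cfsg.Agent.J4Rep94.H24.Data

/-!
# Certificate data
-/

set_option autoImplicit false
set_option maxRecDepth 100000

namespace Cfsg.Agent.J4Rep94.H24

open Cfsg.Agent.CosetEnum

def fv0 : ℕ := 0x61000010005e00063000020003100001000000005600054000520004e0004600044000420003e0003600034000320002e0002600024000220001e0001600014000120000e00006000040000200001000090000b0000d00011000190001b0001d00021000290002b0002d00031000390003b0003d00041000490004b0004d00051000590005b0005d00061000300003100000
theorem fok0 : sys.checkFacts 49 2 fv0 = true := by decide +kernel

def mv0 : ℕ := 0x590005b0005d0000300015000630006000002000160005300055000570000300014000640005e00002000170005c0005a00058000030001700051000010001300056000540005200003000160004f0000100012000490004b0004d000030001100050000010001500043000450004700003000100004e00001000140004c0004a00048000030001300041000010000f00046000440004200003000120003f000010000e000390003b0003d000030000d000400000100011000330003500037000030000c0003e00001000100003c0003a00038000030000f00031000010000b000360003400032000030000e0002f000010000a000290002b0002d000030000900030000010000d00023000250002700003000080002e000010000c0002c0002a00028000030000b000210000100007000260002400022000030000a0001f0000100006000190001b0001d000030000500020000010000900013000150001700003000040001e00001000080001c0001a00018000030000700011000010000300016000140001200003000060000f0000100002000090000b0000d000030000100010000010000500003000050000700003000000000e00001000040000c0000a0000800003000030000100001000000000600004000020000300002000000000100001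
theorem mok0 : checkMain sys 51 reps 24 gens 0 24 mv0 = true := by decide +kernel


end Cfsg.Agent.J4Rep94.H24
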