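import Cfsg.Agent.J4Rep94.P7
import Cfsg.Agent.J4Rep94.Orbit

/-!
# Certificate data
-/

set_option autoImplicit false
set_option maxRecDepth 100000

namespace Cfsg.Agent.J4Rep94.H24

open Cfsg.Agent.CosetEnum

def fxL0 : ℕ := 0xc000bc000c0600062000580000310002f0000180001604000bc000b800005c0005a20002d000290800160001580000ac000a8400054000500000290002700001400012040009c0009800004c0004a2000250002108001200011800008c00088400044000400000210001f0000100000e040007c0007800003c0003a20001d0001908000e0000d800006c00068400034000300000190001700000c0000a040005c0005800002c0002a2000150001108000a00009800004c00048400024000200000110000f00000800006040003c0003800001c0001a20000d0000908000600005800002c00028400014000100000090000700000400002040001c0001800000c0000a2000050000108000200001800000c000084000040000000000100000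
def fx : PTree := (.leaf fxL0)
def rules0 : DTree Rule := (.node 1 (.leaf ⟨3, [0,2,0,1,0,2,0,1,0,2,0,1,0,2,0,1,0,2,0,1,0,2,0,1,0,2,0,1,0,2,0,1,0,2,0,1,0,2,0,1,0,2,0,1,0,2,0,1], [], false, 5, 0⟩) (.leaf ⟨3, [0], [0], false, 0, 0⟩))
def rules : DTree Rule := rules0
def sys : Sys := ⟨3, 0x18440, fx, rules⟩
def rels : List (List ℕ) := baseRels ++ []
def subs : List (List ℕ) := []
def reps0 : DTree ℕ := (.node 12 (.node 6 (.node 3 (.node 1 (.leaf 0) (.node 1 (.leaf 1) (.leaf 4))) (.node 1 (.leaf 7) (.node 1 (.leaf 8) (.leaf 9)))) (.node 3 (.node 1 (.leaf 12) (.node 1 (.leaf 15) (.leaf 16))) (.node 1 (.leaf 17) (.node 1 (.leaf 20) (.leaf 23))))) (.node 6 (.node 3 (.node 1 (.leaf 24) (.node 1 (.leaf 25) (.leaf 28))) (.node 1 (.leaf 31) (.node 1 (.leaf 32) (.leaf 33)))) (.node 3 (.node 1 (.leaf 36) (.node 1 (.leaf 39) (.leaf 40))) (.node 1 (.leaf 41) (.node 1 (.leaf 44) (.leaf 47))))))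
def reps : DTree ℕ := reps0
def gens : List (List ℕ) := [[0],[2,0,1]]

end Cfsg.Agent.J4Rep94.H24
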